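import Groth.Agent.H7Lim.ModHom
import Groth.Agent.H7Lim.Basic

/-!
# Isomorphisms of finitely presented modules descend to a stage
-/

set_option autoImplicit false
set_option linter.style.haveILetI false
universe u

open CategoryTheory CategoryTheory.Limits AlgebraicGeometry

namespace Groth.Agent.H8Props.IsoDescent

variable {X Y Z : Scheme.{u}}

/-- The pullbacks of two modules are isomorphic. -/
def IsoAlong (h : Y ⟶ X) (F G : X.Modules) : Prop :=
  Nonempty ((Scheme.Modules.pullback h).obj F ≅ (Scheme.Modules.pullback h).obj G)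

theorem isoAlong_comp_iff (g : Z ⟶ Y) (h : Y ⟶ X) (F G : X.Modules) :
    IsoAlong g ((Scheme.Modules.pullback h).obj F) ((Scheme.Modules.pullback h).obj G) ↔ IsoAlong (g ≫ h) F G :=
  ⟨fun ⟨e⟩ => ⟨((Scheme.Modules.pullbackComp g h).app F).symm ≪≫ e ≪≫ (Scheme.Modules.pullbackComp g h).app G⟩,
    fun ⟨e⟩ => ⟨(Scheme.Modules.pullbackComp g h).app F ≪≫ e ≪≫ ((Scheme.Modules.pullbackComp g h).app G).symm⟩⟩

theorem IsoAlong.comp (g : Z ⟶ Y) {h : Y ⟶ X} {F G : X.Modules} (H : IsoAlong h F G) :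
    IsoAlong (g ≫ h) F G :=
  (isoAlong_comp_iff g h F G).1 ⟨(Scheme.Modules.pullback g).mapIso H.some⟩

section

variable {I : Type u} [SmallCategory I] [IsCofiltered I] {D : I ⥤ Scheme.{u}} {c : Cone D} (hc : IsLimit c)
  [∀ (i j : I) (f : i ⟶ j), IsAffineHom (D.map f)] {i₀ : I} [CompactSpace (D.obj i₀)]
  [QuasiSeparatedSpace (D.obj i₀)]

include hc in
/-- Isomorphisms descend to a stage. -/
theorem exists_isoAlong_stage {F G : (D.obj i₀).Modules} (hF : CohB1.IsFP F) (hG : CohB1.IsFP G)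
    (h : IsoAlong (c.π.app i₀) F G) : ∃ (l : I) (ψ : l ⟶ i₀), IsoAlong (D.map ψ) F G := by
  obtain ⟨h⟩ := h
  obtain ⟨j, φ, hj, hje⟩ := H7Lim.ModHom.exists_hom hc hF (H29Fitt.isQCoh_of_isFP G hG) h.hom
  have hiso : IsIso ((Scheme.Modules.pullback (c.π.app j)).map hj) := by
    have h1 : IsIso (((H7Lim.ModStage.πIso φ).app F).inv ≫
        (Scheme.Modules.pullback (c.π.app j)).map hj ≫ ((H7Lim.ModStage.πIso φ).app G).hom) := by
      rw [hje]; infer_instance
    have h2 := IsIso.of_isIso_comp_left ((H7Lim.ModStage.πIso φ).app F).inv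
      ((Scheme.Modules.pullback (c.π.app j)).map hj ≫ ((H7Lim.ModStage.πIso φ).app G).hom)
    exact IsIso.of_isIso_comp_right _ ((H7Lim.ModStage.πIso φ).app G).hom
  haveI : CompactSpace (D.obj j) := QuasiCompact.compactSpace_of_compactSpace (D.map φ)
  haveI : QuasiSeparatedSpace (D.obj j) := quasiSeparatedSpace_of_quasiSeparated (D.map φ)
  have hFj := H06EGA9.isFP_pullback (D.map φ) hF
  have hGj := H06EGA9.isFP_pullback (D.map φ) hG
  obtain ⟨l, ψ, hl⟩ := (H7Lim.ModStage.isIso_iff hc (H29Fitt.isQCoh_of_isFP _ hFj)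
    (H29Fitt.isQCoh_of_isFP _ hGj) hj (H29Fitt.isFT_of_isFP _ hFj) hGj).1 hiso
  refine ⟨l, ψ ≫ φ, ?_⟩
  rw [D.map_comp, ← isoAlong_comp_iff]
  exact ⟨@asIso _ _ _ _ _ hl⟩

end

section

variable {I : Type u} [SmallCategory I] [IsCofiltered I] {D : I ⥤ Scheme.{u}} {c : Cone D}
  [∀ (i j : I) (f : i ⟶ j), IsAffineHom (D.map f)] [∀ i, CompactSpace (D.obj i)]
  [∀ i, QuasiSeparatedSpace (D.obj i)]

/-- Isomorphisms of modules on a finitely presented scheme over the base descend to a stage. -/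
theorem exists_isoAlong_of_base (hc : IsLimit c) {S : Scheme.{u}} (p : X ⟶ S) [QuasiCompact p]
    [QuasiSeparated p] {F G : X.Modules} (hF : CohB1.IsFP F) (hG : CohB1.IsFP G)
    {i₀ : I} (st : D.obj i₀ ⟶ S) (t : c.pt ⟶ S) (hst : c.π.app i₀ ≫ st = t)
    (h : IsoAlong (pullback.fst p t) F G) :
    ∃ (l : I) (φ : l ⟶ i₀), IsoAlong (pullback.fst p (D.map φ ≫ st)) F G := by
  let a : pullback p st ⟶ D.obj i₀ := pullback.snd p st
  haveI : QuasiCompact a := MorphismProperty.pullback_snd _ _ ‹QuasiCompact p›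
  haveI : QuasiSeparated a := MorphismProperty.pullback_snd _ _ ‹QuasiSeparated p›
  haveI : ∀ (j l : Over i₀) (f : j ⟶ l), IsAffineHom ((H7Lim.pbDiagram D i₀ a).map f) := fun j l f =>
    H7Lim.isAffineHom_pbDiagram_map D i₀ a j l f
  let k₀ : Over i₀ := Over.mk (𝟙 i₀)
  haveI : CompactSpace ((H7Lim.pbDiagram D i₀ a).obj k₀) := by
    haveI : QuasiCompact (pullback.snd a (D.map k₀.hom)) := MorphismProperty.pullback_snd _ _ ‹QuasiCompact a›
    exact QuasiCompact.compactSpace_of_compactSpace (pullback.snd a (D.map k₀.hom))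
  haveI : QuasiSeparatedSpace ((H7Lim.pbDiagram D i₀ a).obj k₀) := by
    haveI : QuasiSeparated (pullback.snd a (D.map k₀.hom)) := MorphismProperty.pullback_snd _ _ ‹QuasiSeparated a›
    show QuasiSeparatedSpace ↥(pullback a (D.map k₀.hom))
    exact quasiSeparatedSpace_of_quasiSeparated (pullback.snd a (D.map k₀.hom))
  let q₀ : (H7Lim.pbDiagram D i₀ a).obj k₀ ⟶ X := (H7Lim.pbFst D i₀ a).app k₀ ≫ pullback.fst p st
  have hq₀ : (H7Lim.pbCone D c i₀ a).π.app k₀ ≫ q₀ = pullback.fst a (c.π.app i₀) ≫ pullback.fst p st := by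
    simp only [q₀, H7Lim.pbCone_π_app, H7Lim.pbFst_app]
    erw [pullback.lift_fst_assoc, Category.comp_id]
    rfl
  have hbig : IsPullback (pullback.fst a (c.π.app i₀) ≫ pullback.fst p st) (pullback.snd a (c.π.app i₀)) p t :=
    hst ▸ (IsPullback.of_hasPullback a (c.π.app i₀)).paste_horiz (IsPullback.of_hasPullback p st)
  have h0 : IsoAlong ((H7Lim.pbCone D c i₀ a).π.app k₀) ((Scheme.Modules.pullback q₀).obj F)
      ((Scheme.Modules.pullback q₀).obj G) := by
    rw [isoAlong_comp_iff, hq₀, ← hbig.isoPullback_hom_fst]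
    exact IsoAlong.comp _ h
  obtain ⟨l, ψ, hl⟩ := exists_isoAlong_stage (H7Lim.isLimitPbCone D i₀ a hc)
    (H06EGA9.isFP_pullback q₀ hF) (H06EGA9.isFP_pullback q₀ hG) h0
  refine ⟨l.left, l.hom, ?_⟩
  rw [isoAlong_comp_iff] at hl
  have hql : (H7Lim.pbDiagram D i₀ a).map ψ ≫ q₀ = pullback.fst a (D.map l.hom) ≫ pullback.fst p st := by
    simp only [q₀, H7Lim.pbDiagram_map, H7Lim.pbFst_app]
    erw [pullback.lift_fst_assoc, Category.comp_id]
    rfl
  rw [hql] at hl
  have hl' : IsPullback (pullback.fst a (D.map l.hom) ≫ pullback.fst p st) (pullback.snd a (D.map l.hom)) p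
      (D.map l.hom ≫ st) :=
    (IsPullback.of_hasPullback a (D.map l.hom)).paste_horiz (IsPullback.of_hasPullback p st)
  rw [← hl'.isoPullback_inv_fst]
  exact IsoAlong.comp _ hl

end

end Groth.Agent.H8Props.IsoDescent
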